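import Cfsg.Agent.Lib.CosetTable.Sound
import Cfsg.Agent.Lib.CosetTable.Suz22880.Data

/-! Generated certificate data for the coset table `Suz22880`. -/

namespace Cfsg.Agent.Lib.CosetTable.Suz22880

open Cfsg.Agent.Lib.CosetTable

set_option Elab.async false
set_option maxRecDepth 10000

theorem fix_ok_run1 : rangeAll (tab.fixOK cert.rels) 128 0 = true := by decide +kernel

theorem fix_ok_run2 : rangeAll (tab.fixOK cert.rels) 128 128 = true := by decide +kernel

theorem fix_ok_run3 : rangeAll (tab.fixOK cert.rels) 128 256 = true := by decide +kernel

theorem fix_ok_run4 : rangeAll (tab.fixOK cert.rels) 128 384 = true := by decide +kernel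

theorem fix_ok_run5 : rangeAll (tab.fixOK cert.rels) 128 512 = true := by decide +kernel

theorem fix_ok_run6 : rangeAll (tab.fixOK cert.rels) 128 640 = true := by decide +kernel

theorem fix_ok_run7 : rangeAll (tab.fixOK cert.rels) 128 768 = true := by decide +kernel

theorem fix_ok_run8 : rangeAll (tab.fixOK cert.rels) 128 896 = true := by decide +kernel

theorem fix_ok_run9 : rangeAll (tab.fixOK cert.rels) 128 1024 = true := by decide +kernel

theorem fix_ok_run10 : rangeAll (tab.fixOK cert.rels) 128 1152 = true := by decide +kernel

theorem fix_ok_run11 : rangeAll (tab.fixOK cert.rels) 128 1280 = true := by decide +kernel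

theorem fix_ok_run12 : rangeAll (tab.fixOK cert.rels) 128 1408 = true := by decide +kernel

theorem fix_ok_run13 : rangeAll (tab.fixOK cert.rels) 128 1536 = true := by decide +kernel

theorem fix_ok_run14 : rangeAll (tab.fixOK cert.rels) 128 1664 = true := by decide +kernel

theorem fix_ok_run15 : rangeAll (tab.fixOK cert.rels) 128 1792 = true := by decide +kernel

theorem fix_ok_run16 : rangeAll (tab.fixOK cert.rels) 128 1920 = true := by decide +kernel

theorem fix_ok_run17 : rangeAll (tab.fixOK cert.rels) 128 2048 = true := by decide +kernel

theorem fix_ok_run18 : rangeAll (tab.fixOK cert.rels) 128 2176 = true := by decide +kernel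

theorem fix_ok_run19 : rangeAll (tab.fixOK cert.rels) 128 2304 = true := by decide +kernel

theorem fix_ok_run20 : rangeAll (tab.fixOK cert.rels) 128 2432 = true := by decide +kernel

theorem fix_ok_run21 : rangeAll (tab.fixOK cert.rels) 128 2560 = true := by decide +kernel

theorem fix_ok_run22 : rangeAll (tab.fixOK cert.rels) 128 2688 = true := by decide +kernel

theorem fix_ok_run23 : rangeAll (tab.fixOK cert.rels) 128 2816 = true := by decide +kernel

theorem fix_ok_run24 : rangeAll (tab.fixOK cert.rels) 128 2944 = true := by decide +kernel

theorem fix_ok_run25 : rangeAll (tab.fixOK cert.rels) 128 3072 = true := by decide +kernel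

theorem fix_ok_run26 : rangeAll (tab.fixOK cert.rels) 128 3200 = true := by decide +kernel

theorem fix_ok_run27 : rangeAll (tab.fixOK cert.rels) 128 3328 = true := by decide +kernel

theorem fix_ok_run28 : rangeAll (tab.fixOK cert.rels) 128 3456 = true := by decide +kernel

theorem fix_ok_run29 : rangeAll (tab.fixOK cert.rels) 128 3584 = true := by decide +kernel

theorem fix_ok_run30 : rangeAll (tab.fixOK cert.rels) 128 3712 = true := by decide +kernel

theorem fix_ok_run31 : rangeAll (tab.fixOK cert.rels) 128 3840 = true := by decide +kernel

theorem fix_ok_run32 : rangeAll (tab.fixOK cert.rels) 128 3968 = true := by decide +kernel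

theorem fix_ok_run33 : rangeAll (tab.fixOK cert.rels) 128 4096 = true := by decide +kernel

theorem fix_ok_run34 : rangeAll (tab.fixOK cert.rels) 128 4224 = true := by decide +kernel

theorem fix_ok_run35 : rangeAll (tab.fixOK cert.rels) 128 4352 = true := by decide +kernel

theorem fix_ok_run36 : rangeAll (tab.fixOK cert.rels) 128 4480 = true := by decide +kernel

theorem fix_ok_run37 : rangeAll (tab.fixOK cert.rels) 128 4608 = true := by decide +kernel

theorem fix_ok_run38 : rangeAll (tab.fixOK cert.rels) 128 4736 = true := by decide +kernel

theorem fix_ok_run39 : rangeAll (tab.fixOK cert.rels) 128 4864 = true := by decide +kernel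

theorem fix_ok_run40 : rangeAll (tab.fixOK cert.rels) 128 4992 = true := by decide +kernel

theorem fix_ok_run41 : rangeAll (tab.fixOK cert.rels) 128 5120 = true := by decide +kernel

theorem fix_ok_run42 : rangeAll (tab.fixOK cert.rels) 128 5248 = true := by decide +kernel

theorem fix_ok_run43 : rangeAll (tab.fixOK cert.rels) 128 5376 = true := by decide +kernel

theorem fix_ok_run44 : rangeAll (tab.fixOK cert.rels) 128 5504 = true := by decide +kernel

theorem fix_ok_run45 : rangeAll (tab.fixOK cert.rels) 128 5632 = true := by decide +kernel

theorem fix_ok_run46 : rangeAll (tab.fixOK cert.rels) 128 5760 = true := by decide +kernel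

theorem fix_ok_run47 : rangeAll (tab.fixOK cert.rels) 128 5888 = true := by decide +kernel

theorem fix_ok_run48 : rangeAll (tab.fixOK cert.rels) 128 6016 = true := by decide +kernel

theorem fix_ok_run49 : rangeAll (tab.fixOK cert.rels) 128 6144 = true := by decide +kernel

theorem fix_ok_run50 : rangeAll (tab.fixOK cert.rels) 128 6272 = true := by decide +kernel

theorem fix_ok_run51 : rangeAll (tab.fixOK cert.rels) 128 6400 = true := by decide +kernel

theorem fix_ok_run52 : rangeAll (tab.fixOK cert.rels) 128 6528 = true := by decide +kernel

theorem fix_ok_run53 : rangeAll (tab.fixOK cert.rels) 128 6656 = true := by decide +kernel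

theorem fix_ok_run54 : rangeAll (tab.fixOK cert.rels) 128 6784 = true := by decide +kernel

theorem fix_ok_run55 : rangeAll (tab.fixOK cert.rels) 128 6912 = true := by decide +kernel

theorem fix_ok_run56 : rangeAll (tab.fixOK cert.rels) 128 7040 = true := by decide +kernel

theorem fix_ok_run57 : rangeAll (tab.fixOK cert.rels) 128 7168 = true := by decide +kernel

theorem fix_ok_run58 : rangeAll (tab.fixOK cert.rels) 128 7296 = true := by decide +kernel

theorem fix_ok_run59 : rangeAll (tab.fixOK cert.rels) 128 7424 = true := by decide +kernel

theorem fix_ok_run60 : rangeAll (tab.fixOK cert.rels) 128 7552 = true := by decide +kernel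

theorem fix_ok_run61 : rangeAll (tab.fixOK cert.rels) 128 7680 = true := by decide +kernel

theorem fix_ok_run62 : rangeAll (tab.fixOK cert.rels) 128 7808 = true := by decide +kernel

theorem fix_ok_run63 : rangeAll (tab.fixOK cert.rels) 128 7936 = true := by decide +kernel

theorem fix_ok_run64 : rangeAll (tab.fixOK cert.rels) 128 8064 = true := by decide +kernel

theorem fix_ok_run65 : rangeAll (tab.fixOK cert.rels) 128 8192 = true := by decide +kernel

theorem fix_ok_run66 : rangeAll (tab.fixOK cert.rels) 128 8320 = true := by decide +kernel

theorem fix_ok_run67 : rangeAll (tab.fixOK cert.rels) 128 8448 = true := by decide +kernel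

theorem fix_ok_run68 : rangeAll (tab.fixOK cert.rels) 128 8576 = true := by decide +kernel

theorem fix_ok_run69 : rangeAll (tab.fixOK cert.rels) 128 8704 = true := by decide +kernel

theorem fix_ok_run70 : rangeAll (tab.fixOK cert.rels) 128 8832 = true := by decide +kernel

theorem fix_ok_run71 : rangeAll (tab.fixOK cert.rels) 128 8960 = true := by decide +kernel

theorem fix_ok_run72 : rangeAll (tab.fixOK cert.rels) 128 9088 = true := by decide +kernel

theorem fix_ok_run73 : rangeAll (tab.fixOK cert.rels) 128 9216 = true := by decide +kernel

theorem fix_ok_run74 : rangeAll (tab.fixOK cert.rels) 128 9344 = true := by decide +kernel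

theorem fix_ok_run75 : rangeAll (tab.fixOK cert.rels) 128 9472 = true := by decide +kernel

theorem fix_ok_run76 : rangeAll (tab.fixOK cert.rels) 128 9600 = true := by decide +kernel

theorem fix_ok_run77 : rangeAll (tab.fixOK cert.rels) 128 9728 = true := by decide +kernel

theorem fix_ok_run78 : rangeAll (tab.fixOK cert.rels) 128 9856 = true := by decide +kernel

theorem fix_ok_run79 : rangeAll (tab.fixOK cert.rels) 128 9984 = true := by decide +kernel

theorem fix_ok_run80 : rangeAll (tab.fixOK cert.rels) 128 10112 = true := by decide +kernel

theorem fix_ok_run81 : rangeAll (tab.fixOK cert.rels) 128 10240 = true := by decide +kernel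

theorem fix_ok_run82 : rangeAll (tab.fixOK cert.rels) 128 10368 = true := by decide +kernel

theorem fix_ok_run83 : rangeAll (tab.fixOK cert.rels) 128 10496 = true := by decide +kernel

theorem fix_ok_run84 : rangeAll (tab.fixOK cert.rels) 128 10624 = true := by decide +kernel

theorem fix_ok_run85 : rangeAll (tab.fixOK cert.rels) 128 10752 = true := by decide +kernel

theorem fix_ok_run86 : rangeAll (tab.fixOK cert.rels) 128 10880 = true := by decide +kernel

theorem fix_ok_run87 : rangeAll (tab.fixOK cert.rels) 128 11008 = true := by decide +kernel

theorem fix_ok_run88 : rangeAll (tab.fixOK cert.rels) 128 11136 = true := by decide +kernel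

theorem fix_ok_run89 : rangeAll (tab.fixOK cert.rels) 128 11264 = true := by decide +kernel

end Cfsg.Agent.Lib.CosetTable.Suz22880
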